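import Groth.Agent.GeomIrred.CurvPoint
import Groth.Prelude.Def_Curv2

/-!
# Jacobson schemes over large fields
-/

set_option autoImplicit false
set_option backward.isDefEq.respectTransparency false

universe u

open CategoryTheory CategoryTheory.Limits AlgebraicGeometry Cardinal TensorProduct

noncomputable section

namespace Groth.Agent.BigFieldJac

variable {K : Type u} [Field K]

theorem isAlgebraic_of_rank_lt {E : Type u} [Field E] [Algebra K E] (h : Module.rank K E < #K) :
    Algebra.IsAlgebraic K E := by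
  refine ⟨fun x => ?_⟩
  by_contra hx
  exact absurd (Transcendental.linearIndependent_sub_inv hx).cardinal_le_rank (not_le.2 h)

variable {A : Type u} [CommRing A] [Algebra K A]

theorem isAlgebraic_quotient_maximal (h : Module.rank K A < #K) (m : Ideal A) [m.IsMaximal] :
    Algebra.IsAlgebraic K (A ⧸ m) := by
  letI := Ideal.Quotient.field m
  exact isAlgebraic_of_rank_lt
    ((LinearMap.rank_le_of_surjective (Ideal.Quotient.mkₐ K m).toLinearMap Ideal.Quotient.mk_surjective).trans_lt h)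

theorem rank_away_le (f : A) (B : Type u) [CommRing B] [Algebra A B] [Algebra K B] [IsScalarTower K A B]
    [IsLocalization.Away f B] : Module.rank K B ≤ max ℵ₀ (Module.rank K A) := by
  let φ : (ℕ →₀ A) →ₗ[K] B := Finsupp.lsum K fun n =>
    (LinearMap.mulRight K (IsLocalization.Away.invSelf f ^ n : B)).comp (IsScalarTower.toAlgHom K A B).toLinearMap
  have hφ : Function.Surjective φ := fun b => by
    obtain ⟨n, a, h⟩ := IsLocalization.Away.surj f b
    refine ⟨Finsupp.single n a, ?_⟩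
    simp [φ, ← h, mul_assoc, ← mul_pow, IsLocalization.Away.mul_invSelf]
  refine (LinearMap.rank_le_of_surjective φ hφ).trans ?_
  rw [rank_finsupp, mk_nat, lift_aleph0, lift_uzero]
  refine (mul_le_max _ _).trans (max_le (max_le ?_ ?_) ?_) <;> simp

theorem isJacobsonRing_of_rank_lt (hK : ℵ₀ < #K) (h : Module.rank K A < #K) : IsJacobsonRing A := by
  rw [isJacobsonRing_iff_prime_eq]
  intro P hP
  refine le_antisymm (fun f hf => ?_) Ideal.le_jacobson
  by_contra hfP
  let f' : A ⧸ P := Ideal.Quotient.mk P f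
  have hf0 : f' ≠ 0 := fun h0 => hfP (Ideal.Quotient.eq_zero_iff_mem.1 h0)
  let B := Localization.Away f'
  haveI : Nontrivial B := not_subsingleton_iff_nontrivial.1 fun hs => by
    obtain ⟨n, hn⟩ := (IsLocalization.subsingleton_iff (S := B) (M := Submonoid.powers f')).1 hs
    exact hf0 (pow_eq_zero_iff' |>.1 hn).1
  obtain ⟨mB, hmB⟩ := Ideal.exists_maximal B
  have hB : Module.rank K B < #K := (rank_away_le f' B).trans_lt (max_lt hK
    ((LinearMap.rank_le_of_surjective (Ideal.Quotient.mkₐ K P).toLinearMap Ideal.Quotient.mk_surjective).trans_lt h))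
  haveI := isAlgebraic_quotient_maximal hB mB
  let ψ : A →ₐ[K] B ⧸ mB := (Ideal.Quotient.mkₐ K mB).comp
    ((IsScalarTower.toAlgHom K (A ⧸ P) B).comp (Ideal.Quotient.mkₐ K P))
  haveI : (RingHom.ker ψ).IsPrime := RingHom.ker_isPrime _
  have hmax : (RingHom.ker ψ).IsMaximal := by
    haveI : Algebra.IsIntegral K (A ⧸ RingHom.ker ψ) :=
      Algebra.IsIntegral.of_injective (Ideal.kerLiftAlg ψ) (Ideal.kerLiftAlg_injective ψ)
    exact Ideal.Quotient.maximal_of_isField _ (isField_of_isIntegral_of_isField' (R := K) (Field.toIsField K))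
  have hle : P ≤ RingHom.ker ψ := fun x hx => by
    simp [ψ, RingHom.mem_ker, Ideal.Quotient.eq_zero_iff_mem.2 hx]
  have hfm : f ∈ RingHom.ker ψ := Ideal.mem_sInf.1 hf ⟨hle, hmax⟩
  have hu : IsUnit (ψ f) := (IsLocalization.Away.algebraMap_isUnit (S := B) f').map (Ideal.Quotient.mk mB)
  exact hu.ne_zero (RingHom.mem_ker.1 hfm)

theorem isAlgebraic_residueField_Spec (h : Module.rank K A < #K) (y : Spec (CommRingCat.of A))
    (hy : IsClosed ({y} : Set (Spec (CommRingCat.of A)))) :
    letI : (Spec (CommRingCat.of A)).Over (Spec (CommRingCat.of K)) :=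
      ⟨Spec.map (CommRingCat.ofHom (algebraMap K A))⟩
    ∀ z : (Spec (CommRingCat.of A)).residueField y, ∃ p : Polynomial K, p ≠ 0 ∧
      p.eval₂ (Curv2.resMap K (Spec (CommRingCat.of A)) y) z = 0 := by
  letI : (Spec (CommRingCat.of A)).Over (Spec (CommRingCat.of K)) :=
    ⟨Spec.map (CommRingCat.ofHom (algebraMap K A))⟩
  intro z
  haveI : y.asIdeal.IsMaximal := (PrimeSpectrum.isClosed_singleton_iff_isMaximal _).1 hy
  haveI := isAlgebraic_quotient_maximal h y.asIdeal
  let e : (A ⧸ y.asIdeal) →+* (Spec (CommRingCat.of A)).residueField y :=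
    (Scheme.Spec.residueFieldIso (CommRingCat.of A) y).inv.hom.comp (algebraMap (A ⧸ y.asIdeal) y.asIdeal.ResidueField)
  have he : Function.Surjective e :=
    (Scheme.Spec.residueFieldIso (CommRingCat.of A) y).symm.commRingCatIsoToRingEquiv.surjective.comp
      (Ideal.bijective_algebraMap_quotient_residueField y.asIdeal).surjective
  have hres : CommRingCat.ofHom (Curv2.resMap K (Spec (CommRingCat.of A)) y) =
      CommRingCat.ofHom (e.comp (algebraMap K (A ⧸ y.asIdeal))) := Spec.map_injective (by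
    rw [Groth.Agent.GeomIrred.spec_resMap, ← Scheme.Spec.map_residueFieldIso_inv_eq_fromSpecResidueField]
    show (Spec.map _ ≫ Spec.map _) ≫ Spec.map _ = _
    rw [← Spec.map_comp, ← Spec.map_comp]
    rfl)
  obtain ⟨w, rfl⟩ := he z
  obtain ⟨p, hp, hpw⟩ := Algebra.IsAlgebraic.isAlgebraic (R := K) w
  refine ⟨p, hp, ?_⟩
  rw [show Curv2.resMap K (Spec (CommRingCat.of A)) y = e.comp (algebraMap K (A ⧸ y.asIdeal)) from
    congrArg CommRingCat.Hom.hom hres, ← Polynomial.hom_eval₂, ← Polynomial.aeval_def, hpw, map_zero]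

theorem isAlgebraic_residueField_of_isOpenImmersion (X Y : Scheme.{u}) [X.Over (Spec (CommRingCat.of K))]
    [Y.Over (Spec (CommRingCat.of K))] (j : Y ⟶ X) [IsOpenImmersion j]
    (hj : j ≫ (X ↘ Spec (CommRingCat.of K)) = Y ↘ Spec (CommRingCat.of K)) (y : Y)
    (h : ∀ z : Y.residueField y, ∃ p : Polynomial K, p ≠ 0 ∧ p.eval₂ (Curv2.resMap K Y y) z = 0) :
    letI := Curv2.resAlgebra K X (j y)
    Algebra.IsAlgebraic K (X.residueField (j y)) := by
  letI := Curv2.resAlgebra K X (j y)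
  refine ⟨fun z => ?_⟩
  obtain ⟨p, hp, hpz⟩ := h (j.residueFieldMap y z)
  refine ⟨p, hp, (asIso (j.residueFieldMap y)).commRingCatIsoToRingEquiv.injective ?_⟩
  have hcomp : CommRingCat.ofHom (Curv2.resMap K Y y) =
      CommRingCat.ofHom (Curv2.resMap K X (j y)) ≫ j.residueFieldMap y := Spec.map_injective (by
    rw [Spec.map_comp, Groth.Agent.GeomIrred.spec_resMap, Groth.Agent.GeomIrred.spec_resMap,
      Scheme.Hom.SpecMap_residueFieldMap_fromSpecResidueField_assoc, hj])
  rw [map_zero, Polynomial.aeval_def]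
  show (j.residueFieldMap y).hom (p.eval₂ (Curv2.resMap K X (j y)) z) = 0
  rw [Polynomial.hom_eval₂]
  rw [show Curv2.resMap K Y y = (j.residueFieldMap y).hom.comp (Curv2.resMap K X (j y)) from
    congrArg CommRingCat.Hom.hom hcomp] at hpz
  exact hpz

theorem exists_cardinal (k : Type u) [Field k] (X : Scheme.{u}) [X.Over (Spec (CommRingCat.of k))] :
    ∃ κ : Cardinal.{u}, ∀ (K : Type u) [Field K] [Algebra k K], κ ≤ Cardinal.mk K →
      JacobsonSpace ↥(Curv2.bc k X K) ∧
        ∀ x : ↥(Curv2.bc k X K), IsClosed ({x} : Set ↥(Curv2.bc k X K)) →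
          letI : (Curv2.bc k X K).Over (Spec (CommRingCat.of K)) := ⟨Curv2.bcSnd k X K⟩
          letI := Curv2.resAlgebra K (Curv2.bc k X K) x
          Algebra.IsAlgebraic K ((Curv2.bc k X K).residueField x) := by
  classical
  let 𝒰 := X.affineCover
  refine ⟨Order.succ (max ℵ₀ (⨆ i : 𝒰.I₀, #((X.affineCover.X i).presheaf.obj (Opposite.op ⊤)))), fun K _ _ hK => ?_⟩
  have hK' := Order.succ_le_iff.1 hK
  have key : ∀ x : ↥(Curv2.bc k X K), ∃ (Y : Scheme.{u}) (j : Y ⟶ Curv2.bc k X K) (y : Y),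
      IsOpenImmersion j ∧ j y = x ∧ JacobsonSpace Y ∧
        (IsClosed ({y} : Set Y) →
          letI : Y.Over (Spec (CommRingCat.of K)) := ⟨j ≫ Curv2.bcSnd k X K⟩
          ∀ z : Y.residueField y, ∃ p : Polynomial K, p ≠ 0 ∧ p.eval₂ (Curv2.resMap K Y y) z = 0) := by
    intro x
    let 𝒱 := Scheme.Pullback.openCoverOfLeft 𝒰 (X ↘ Spec (CommRingCat.of k))
      (Spec.map (CommRingCat.ofHom (algebraMap k K)))
    obtain ⟨i, y, rfl⟩ := 𝒱.exists_eq x
    obtain ⟨R, eR⟩ : ∃ R : CommRingCat.{u}, Nonempty (𝒰.X i ≅ Spec R) := ⟨_, ⟨(𝒰.X i).isoSpec⟩⟩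
    obtain ⟨eR⟩ := eR
    let φ : k →+* R := (Spec.preimage (eR.inv ≫ 𝒰.f i ≫ (X ↘ Spec (CommRingCat.of k)))).hom
    letI : Algebra k R := φ.toAlgebra
    let g := Spec.map (CommRingCat.ofHom (algebraMap k K))
    let j₀ : pullback (Spec.map (CommRingCat.ofHom (algebraMap k R))) g ⟶ 𝒱.X i :=
      pullback.map _ _ _ _ eR.inv (𝟙 _) (𝟙 _) (by
        rw [Category.comp_id]
        exact Spec.map_preimage (eR.inv ≫ 𝒰.f i ≫ (X ↘ Spec (CommRingCat.of k)))) rfl
    let e₁ : Spec (CommRingCat.of (R ⊗[k] K)) ⟶ 𝒱.X i := (pullbackSpecIso k R K).inv ≫ j₀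
    haveI : IsIso j₀ := pullback.map_isIso _ _ _ _ _ _ _ _ _
    letI : Algebra K (R ⊗[k] K) := Algebra.TensorProduct.rightAlgebra
    have hrank : Module.rank K (R ⊗[k] K) < #K := by
      have h1 : Module.rank K (R ⊗[k] K) = Module.rank k R := by
        have e : (K ⊗[k] R) ≃ₐ[K] (R ⊗[k] K) :=
          AlgEquiv.ofRingEquiv (f := (Algebra.TensorProduct.comm k K R).toRingEquiv) (fun c => by
            show Algebra.TensorProduct.comm k K R (c ⊗ₜ 1) = _
            rw [Algebra.TensorProduct.comm_tmul]; rfl)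
        rw [← e.toLinearEquiv.rank_eq, Module.rank_baseChange, lift_id]
      rw [h1]
      refine (rank_le_card k R).trans_lt (lt_of_le_of_lt ?_ hK')
      refine le_trans ?_ (le_max_right _ _)
      refine le_trans (le_of_eq ?_) (le_ciSup (Cardinal.bddAbove_range _) i)
      exact mk_congr ((Scheme.Γ.mapIso eR.op).symm ≪≫ Scheme.ΓSpecIso R).commRingCatIsoToRingEquiv.toEquiv.symm
    haveI := isJacobsonRing_of_rank_lt ((le_max_left _ _).trans_lt hK') hrank
    refine ⟨Spec (CommRingCat.of (R ⊗[k] K)), e₁ ≫ 𝒱.f i, (inv e₁) y, inferInstance, ?_, inferInstance, ?_⟩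
    · show (inv e₁ ≫ e₁ ≫ 𝒱.f i) y = _
      rw [IsIso.inv_hom_id_assoc]
    · intro hy
      have hover : (e₁ ≫ 𝒱.f i) ≫ Curv2.bcSnd k X K = Spec.map (CommRingCat.ofHom (algebraMap K (R ⊗[k] K))) := by
        simp only [e₁, j₀, 𝒱, Category.assoc, Curv2.bcSnd, Scheme.Pullback.openCoverOfLeft_f, pullback.lift_snd,
          Category.comp_id]
        exact pullbackSpecIso_inv_snd k R K
      have := isAlgebraic_residueField_Spec hrank ((inv e₁) y) hy
      rw [hover]
      exact this
  refine ⟨?_, fun x hx => ?_⟩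
  · choose Y j y hj hjy hY _ using key
    have hcov : TopologicalSpace.IsOpenCover fun x => (j x).opensRange := by
      haveI := hj
      exact TopologicalSpace.Opens.ext (Set.eq_univ_of_forall fun x => by
        rw [TopologicalSpace.Opens.coe_iSup]
        exact Set.mem_iUnion.2 ⟨x, y x, hjy x⟩)
    refine hcov.jacobsonSpace_iff.2 fun x => ?_
    haveI := hj x
    haveI := hY x
    exact JacobsonSpace.of_isOpenEmbedding (f := (Scheme.homeoOfIso (j x).isoOpensRange.symm))
      (Homeomorph.isOpenEmbedding _)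
  · letI : (Curv2.bc k X K).Over (Spec (CommRingCat.of K)) := ⟨Curv2.bcSnd k X K⟩
    obtain ⟨Y, j, y, hj, rfl, -, h⟩ := key x
    letI : Y.Over (Spec (CommRingCat.of K)) := ⟨j ≫ Curv2.bcSnd k X K⟩
    have hy : IsClosed ({y} : Set Y) := by
      rw [show ({y} : Set Y) = j ⁻¹' {j y} by ext a; exact ⟨fun h => by rw [h]; rfl, fun h => j.isOpenEmbedding.injective h⟩]
      exact hx.preimage j.continuous
    exact isAlgebraic_residueField_of_isOpenImmersion _ _ j rfl y (h hy)

end Groth.Agent.BigFieldJac
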